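import Groth.Agent.CartFilt.Basic
import Groth.Agent.FittLib.Sheaf
import Groth.Agent.FittLib.Rank
import Groth.Agent.PicLaw.Basic

/-!
# Monomorphisms of invertible modules and the Fitting ideal of the cokernel
-/

set_option autoImplicit false
set_option linter.style.haveILetI false
set_option backward.isDefEq.respectTransparency false
set_option backward.isDefEq.respectTransparency.types false
universe u
open CategoryTheory CategoryTheory.Limits AlgebraicGeometry TopologicalSpace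

namespace Groth.Agent.RamDiv

open Groth.Agent.QCoh Groth.Agent.Props.GenLocus Groth.Agent.Props.GenTensor
open Groth.Agent.PullStalk.Sky Groth.Agent.PullStalk.Exact Groth.Agent.NegVan Groth.Agent.CartFilt

variable {X : Scheme.{u}} [IsIntegral X] [IsLocallyNoetherian X]
variable {P M F : X.Modules} (c : P ⟶ M) [Mono c] (π : M ⟶ F) (w : c ≫ π = 0)

include π w in
theorem exists_local (hS : (ShortComplex.mk c π w).ShortExact)
    (hP : PicF.IsInvertible P) (hM : PicF.IsInvertible M) [F.IsQuasicoherent] [F.IsFiniteType] (x : X) :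
    ∃ (U : X.affineOpens) (g : Γ(X, U.1)) (p : Γ(P, U.1)) (m : Γ(M, U.1)), x ∈ U.1 ∧
      IsGen P U.1 p ∧ IsGen M U.1 m ∧ c.app U.1 p = g • m ∧
      IsEqn (Fitt.sheafIdeal F 0) U g := by
  obtain ⟨V, p, m, hx, hp, hm⟩ := PicLaw.exists_isGen_pair hP hM x
  obtain ⟨U, hU, hxU, hUV⟩ := exists_isAffineOpen_mem_and_subset (x := x) (U := V) hx
  haveI : Nonempty U := ⟨⟨x, hxU⟩⟩
  obtain ⟨g, hg, -⟩ := (hm.restrict hUV).exists_eq le_rfl (c.app U (res P hUV p))
  rw [res_self] at hg
  haveI : P.IsQuasicoherent := ProjTwist.isQCoh_of_isInvertible hP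
  haveI : Epi π := hS.epi_g
  haveI : M.IsQuasicoherent := ProjTwist.isQCoh_of_isInvertible hM
  have hinj := QCoh.app_injective_of_mono c U
  have hgz : g ≠ 0 := by
    rintro rfl
    rw [zero_smul, ← map_zero (c.app U).hom] at hg
    have h0 := (hp.restrict hUV).injective le_rfl (a := (1 : Γ(X, U))) (b := 0)
      (by rw [one_smul, zero_smul, res_self]; exact hinj hg)
    exact one_ne_zero h0
  refine ⟨⟨U, hU⟩, g, _, _, hxU, hp.restrict hUV, hm.restrict hUV, hg, mem_nonZeroDivisors_of_ne_zero hgz, ?_⟩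
  rw [FittLib.sheafIdeal_ideal]
  let y : Fin 1 → Γ(F, U) := fun _ => π.app U (res M hUV m)
  have hy : Submodule.span Γ(X, U) (Set.range y) = ⊤ := by
    refine top_unique fun t _ => ?_
    obtain ⟨s, rfl⟩ := QCoh.app_surjective_of_epi π hU t
    obtain ⟨a, ha, -⟩ := (hm.restrict hUV).exists_eq le_rfl s
    rw [ha, res_self, Scheme.Modules.Hom.app_smul]
    exact Submodule.smul_mem _ _ (Submodule.subset_span ⟨0, rfl⟩)
  rw [FittLib.ideal_eq_G y hy]
  apply le_antisymm
  · rw [FittLib.G, Ideal.span_le]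
    rintro d ⟨a, ha, rfl⟩
    have h1 := ha 0 (by norm_num)
    rw [Fin.sum_univ_one] at h1
    rw [← Scheme.Modules.Hom.app_smul] at h1
    obtain ⟨q, hq⟩ := QCoh.exists_app_eq_of_app_eq_zero _ hS.exact U _ h1
    obtain ⟨b, hb, -⟩ := (hp.restrict hUV).exists_eq le_rfl q
    rw [res_self] at hb
    change c.app U q = _ at hq
    rw [hb, Scheme.Modules.Hom.app_smul, hg, smul_smul] at hq
    rw [SetLike.mem_coe, Ideal.mem_span_singleton', Matrix.det_fin_one]
    exact ⟨b, (hm.restrict hUV).injective le_rfl (by rw [res_self]; exact hq)⟩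
  · rw [Ideal.span_singleton_le_iff_mem]
    refine Ideal.subset_span ⟨Matrix.of fun _ _ => g, fun i _ => ?_, by simp [Matrix.det_fin_one]⟩
    rw [Fin.sum_univ_one, Matrix.of_apply]
    show g • π.app U _ = 0
    rw [← Scheme.Modules.Hom.app_smul, ← hg]
    exact QCoh.app_app_eq_zero (ShortComplex.mk c π w) U _

include w in
/-- `P ≅ M ⊗ Fitt₀(M/P)`. -/
theorem nonempty_iso (hS : (ShortComplex.mk c π w).ShortExact)
    (hP : PicF.IsInvertible P) (hM : PicF.IsInvertible M) [F.IsQuasicoherent] [F.IsFiniteType] :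
    Nonempty (CohB1.tensorMod M (ClSub.idealMod (Fitt.sheafIdeal F 0)) ≅ P) := by
  let I := Fitt.sheafIdeal F 0
  have hI : BlowUp.IsEffCartierIdeal I := fun x => by
    obtain ⟨U, g, p, m, hx, -, -, -, h⟩ := exists_local c π w hS hP hM x
    exact ⟨U, hx, g, h.1, h.2⟩
  haveI : Mono (CartFilt.α I M) := CartFilt.mono_α hI M hM
  have key : ∀ x, (∀ z, ∃ y, stalkLin c x y = stalkLin (CartFilt.α I M) x z) ∧
      (∀ y, ∃ z, stalkLin (CartFilt.α I M) x z = stalkLin c x y) := fun x => by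
    obtain ⟨U, g, p, m, hx, hp, hm, hpm, h⟩ := exists_local c π w hS hP hM x
    obtain ⟨e, he, hge⟩ := CartFilt.exists_gen h
    have hr := mem_range_mulθ_iff (ClSub.idealModι I) M he x hx
    refine ⟨fun z => ?_, fun y => ?_⟩
    · obtain ⟨s, hs⟩ := (hr _).1 (LinearMap.mem_range_self _ z)
      obtain ⟨W, hW, t, rfl⟩ := exists_germM_eq M x s
      obtain ⟨a, ha, -⟩ := hm.exists_eq (inf_le_right : W ⊓ U.1 ≤ U.1) (res M inf_le_left t)
      refine ⟨germM P (W ⊓ U.1) x ⟨hW, hx⟩ (a • res P inf_le_right p), ?_⟩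
      refine Eq.trans ?_ hs
      rw [hge, ← AssSch.Stalk.germM_res M (inf_le_left : W ⊓ U.1 ≤ W) x ⟨hW, hx⟩ t, ha, stalkLin_germ,
        Scheme.Modules.Hom.app_smul, app_res, hpm, res_smul, smul_smul, germM_smul, germM_smul, map_mul, mul_smul]
      rw [X.presheaf.germ_res_apply]
      exact smul_comm _ _ _
    · obtain ⟨W, hW, t, rfl⟩ := exists_germM_eq P x y
      obtain ⟨a, ha, -⟩ := hp.exists_eq (inf_le_right : W ⊓ U.1 ≤ U.1) (res P inf_le_left t)
      refine LinearMap.mem_range.1 ((hr _).2 ⟨germM M (W ⊓ U.1) x ⟨hW, hx⟩ (a • res M inf_le_right m), ?_⟩)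
      rw [hge, ← AssSch.Stalk.germM_res P (inf_le_left : W ⊓ U.1 ≤ W) x ⟨hW, hx⟩ t, ha, stalkLin_germ,
        Scheme.Modules.Hom.app_smul, app_res, hpm, res_smul, smul_smul, germM_smul, germM_smul, map_mul, mul_smul]
      rw [X.presheaf.germ_res_apply]
      exact smul_comm _ _ _
  have hz : CartFilt.α I M ≫ π = 0 := Omega.Stalks.hom_ext_stalk fun x => LinearMap.ext fun z => by
    obtain ⟨y, hy⟩ := (key x).1 z
    refine (stalkLin_comp' _ _ x z).trans (Eq.trans ?_ (CohDev.stalkLin_zero_apply x z).symm)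
    rw [← hy]
    exact ((stalk_exact hS x).2.1 _).2 ⟨y, rfl⟩
  let k := hS.fIsKernel.lift (KernelFork.ofι (CartFilt.α I M) hz)
  have hk : k ≫ c = CartFilt.α I M := hS.fIsKernel.fac _ WalkingParallelPair.zero
  haveI : Mono k := mono_of_mono_fac hk
  haveI : Epi k := Omega.Stalks.epi_of_stalk fun x y => by
    obtain ⟨z, hz'⟩ := (key x).2 y
    refine ⟨z, (stalk_exact hS x).1 ?_⟩
    rw [← hk] at hz'
    exact (stalkLin_comp' _ _ x z).symm.trans hz'
  haveI := isIso_of_mono_of_epi k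
  exact ⟨asIso k⟩

end Groth.Agent.RamDiv
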